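import Cfsg.Agent.Lib.Spor.Ext
import Cfsg.Agent.Lib.Spor.J3p.Main

set_option autoImplicit false
set_option maxRecDepth 100000
set_option Elab.async false
set_option exponentiation.threshold 100000

namespace Cfsg.Agent.Spor.J3c
open Cfsg.Agent.PG Cfsg.Agent.Spor

def mdw3 : List ℕ := [1, 1, 1, 1, 1, 1]

theorem mdok3 : modOK 0 4 4 5 J3p.cl3_l mdw3 = true := by decide +kernel

def mdw2 : List ℕ := [1, 1, 1, 1, 1, 1, 1, 1, 1, 1, 1, 1, 1, 1, 1, 1, 1, 1]

theorem mdok2 : modOK 0 4 4 5 J3p.cl2_l mdw2 = true := by decide +kernel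

def mdw1 : List ℕ := [0x109, 1, 1, 1, 0x108, 1, 0x108, 0x109, 0x108, 0x109, 1, 0x109, 0x108, 0x109, 0x108, 0x109, 0x109, 0x108, 0x108, 0x108, 1, 0x108, 0x109, 1, 1, 1, 1, 1, 1, 0x108, 0x108]

theorem mdok1 : modOK 0 4 4 5 J3p.cl1_l mdw1 = true := by decide +kernel

def mdw0 : List ℕ := [1, 0x109, 1, 1, 1, 1, 0x108, 0x109, 1, 1, 0x108, 1, 0x109, 0x109, 0x109, 0x108, 1, 0x108, 0x108, 0x109, 0x109, 0x109, 0x109, 0x109, 0x109, 0x109, 0x108, 0x109, 0x109, 0x109, 0x109, 0x109, 1, 0x108, 0x109, 0x108, 0x109, 1, 1, 1, 0x108, 1, 1, 0x109, 0x108, 1, 1, 0x109, 1, 0x108, 1, 1, 1, 1, 1, 0x108, 0x108, 1, 0x109, 0x108, 0x108, 0x108, 1, 0x109, 0x109, 1, 0x109, 0x108, 1, 1, 0x109, 0x109, 0x109, 1, 0x109, 0x108, 0x109, 0x109, 0x108, 1, 0x108, 0x108, 1, 0x109, 1, 1, 0x108, 1, 0x109, 0x108, 1, 0x108, 0x108, 0x108, 0x109, 0x109, 0x108, 1, 1, 1, 0x109, 1, 0x108, 1, 1, 1, 1, 0x109, 1, 0x109, 0x109, 1, 0x109]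

theorem mdok0 : modOK 0 4 4 5 J3p.cl0_l mdw0 = true := by decide +kernel

def nz_r : List (List ℕ) := [[0x108], [0x108], [0x108], [0x108]]

theorem nzok : nzOK 0 4 4 5 nz_r = true := by decide +kernel

def g1_g : List (ℕ × ℕ) := [(5, 1),
  (6, 0x108010101),
  (7, 0x109000000),
  (8, 0x1080704010306000303),
  (9, 0x104010101040006000303),
  (10, 0x10704010306000303000000),
  (11, 0x1090202010702000506),
  (12, 0x10202010702000506010101),
  (13, 0x104020700030103050701),
  (14, 0x10303000701050300000701),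
  (15, 0x101060306040102020200),
  (16, 0x10300050701040201020200),
  (17, 0x10207040400040007020000),
  (18, 0x10603060401020202),
  (19, 0x105020104010200040005),
  (20, 0x104000206000500030102),
  (21, 0x100060306040102020201),
  (22, 0x10502020701030501030101),
  (23, 1),
  (24, 0x10900050105010200040301),
  (25, 0x10800020501030004000401),
  (26, 0x100030303000507020700),
  (27, 0x10202040202000005020701),
  (28, 0x10701010204000500),
  (29, 0x101060306040102020201),
  (30, 0x10104010503000006),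
  (31, 0x10006030401010303050303),
  (32, 0x10500020401010704020103),
  (33, 0x10200030506000005030104),
  (34, 1),
  (35, 0x1090201010703010205),
  (36, 0x10703000307020102050002),
  (37, 0x10602000005070104020701),
  (38, 0x1080403000206000003),
  (39, 0x10303070005010102060403),
  (40, 0x1080707000006030102),
  (41, 0x1080002070300020700000200),
  (42, 0x10406060107010506030102),
  (43, 0x10700020500040301020601),
  (44, 0x10400030603000503040200),
  (45, 0x1020606060503),
  (46, 0x102020007000206010202),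
  (47, 0x10201060300060503000601)]

def g2_g : List (ℕ × ℕ) := [(0, 0x135290c),
  (1, 0x135115e3122503411),
  (2, 0x115355a3750380d),
  (3, 0x1342c5234503850220c),
  (4, 0x1201d0c)]

def ng_l : List (Claim × ℕ × ℕ) := [(([528], []), 0, 0), (([512, 516], [516, 512]), 0, 1)]

end Cfsg.Agent.Spor.J3c
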