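import Cfsg.Agent.Lib.Spor.SU4
import Cfsg.Prelude.Def_Spor_J3

set_option autoImplicit false
set_option maxRecDepth 100000
set_option Elab.async false
set_option exponentiation.threshold 1000000

namespace Cfsg.Agent.Spor.J3c
open Cfsg.Agent.PG Cfsg.Agent.Spor Cfsg.Spor Matrix

/-- a network of transvections and coordinate swaps -/
noncomputable def linNet (lg : ℕ) (l : List (ℕ × ℕ × ℕ)) : Net :=
  List.rec (motive := fun _ => Net) Net.nil (fun q _ ih => Net.cons q.1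
    (Nat.xor (plane q.2.1 lg) (Nat.land (plane q.2.1 lg) (plane q.2.2 lg))) ih) l

def specs : List (List (ℕ × ℕ × ℕ)) := [[],
  [(4, 2, 3), (4, 3, 2), (32, 4, 5), (16, 5, 4), (256, 8, 9), (256, 9, 8), (2048, 10, 11), (1024, 11, 10), (16384, 14, 15), (16384, 15, 14), (131072, 16, 17), (65536, 17, 16)],
  [(8, 2, 3), (4, 3, 2), (16, 4, 5), (16, 5, 4), (512, 8, 9), (256, 9, 8), (1024, 10, 11), (1024, 11, 10), (32768, 14, 15), (16384, 15, 14), (65536, 16, 17), (65536, 17, 16)],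
  [(64, 6, 7), (64, 7, 6), (256, 8, 9), (256, 9, 8), (1024, 10, 11), (1024, 11, 10), (8192, 12, 13), (4096, 13, 12), (32768, 14, 15), (16384, 15, 14), (131072, 16, 17), (65536, 17, 16)],
  [(4, 2, 3), (4, 3, 2), (32, 4, 5), (16, 5, 4), (64, 6, 7), (64, 7, 6), (512, 8, 9), (256, 9, 8), (8192, 12, 13), (4096, 13, 12), (65536, 16, 17), (65536, 17, 16)],
  [(8, 2, 3), (4, 3, 2), (16, 4, 5), (16, 5, 4), (64, 6, 7), (64, 7, 6), (2048, 10, 11), (1024, 11, 10), (8192, 12, 13), (4096, 13, 12), (16384, 14, 15), (16384, 15, 14)],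
  [(128, 6, 7), (64, 7, 6), (512, 8, 9), (256, 9, 8), (2048, 10, 11), (1024, 11, 10), (4096, 12, 13), (4096, 13, 12), (16384, 14, 15), (16384, 15, 14), (65536, 16, 17), (65536, 17, 16)],
  [(4, 2, 3), (4, 3, 2), (32, 4, 5), (16, 5, 4), (128, 6, 7), (64, 7, 6), (1024, 10, 11), (1024, 11, 10), (4096, 12, 13), (4096, 13, 12), (32768, 14, 15), (16384, 15, 14)],
  [(8, 2, 3), (4, 3, 2), (16, 4, 5), (16, 5, 4), (128, 6, 7), (64, 7, 6), (256, 8, 9), (256, 9, 8), (4096, 12, 13), (4096, 13, 12), (131072, 16, 17), (65536, 17, 16)],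
  [(4, 2, 3), (4, 3, 2), (16, 4, 5), (16, 5, 4), (64, 6, 7), (64, 7, 6), (512, 8, 9), (256, 9, 8), (2048, 10, 11), (1024, 11, 10), (4096, 12, 13), (4096, 13, 12), (32768, 14, 15), (16384, 15, 14), (131072, 16, 17), (65536, 17, 16)],
  [(1, 0, 1), (1, 1, 0), (16, 4, 5), (16, 5, 4), (128, 6, 7), (64, 7, 6), (256, 8, 9), (256, 9, 8), (2048, 10, 11), (1024, 11, 10), (8192, 12, 13), (4096, 13, 12), (16384, 14, 15), (16384, 15, 14), (131072, 16, 17), (65536, 17, 16)],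
  [(1, 0, 1), (1, 1, 0), (4, 2, 3), (4, 3, 2), (128, 6, 7), (64, 7, 6), (512, 8, 9), (256, 9, 8), (1024, 10, 11), (1024, 11, 10), (8192, 12, 13), (4096, 13, 12), (32768, 14, 15), (16384, 15, 14), (65536, 16, 17), (65536, 17, 16)],
  [(1, 0, 1), (1, 1, 0), (8, 2, 3), (4, 3, 2), (32, 4, 5), (16, 5, 4), (256, 8, 9), (256, 9, 8), (1024, 10, 11), (1024, 11, 10), (4096, 12, 13), (4096, 13, 12), (32768, 14, 15), (16384, 15, 14), (131072, 16, 17), (65536, 17, 16)],
  [(2, 0, 1), (1, 1, 0), (4, 2, 3), (4, 3, 2), (32, 4, 5), (16, 5, 4), (64, 6, 7), (64, 7, 6), (1024, 10, 11), (1024, 11, 10), (8192, 12, 13), (4096, 13, 12), (16384, 14, 15), (16384, 15, 14), (131072, 16, 17), (65536, 17, 16)],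
  [(2, 0, 1), (1, 1, 0), (8, 2, 3), (4, 3, 2), (16, 4, 5), (16, 5, 4), (64, 6, 7), (64, 7, 6), (256, 8, 9), (256, 9, 8), (8192, 12, 13), (4096, 13, 12), (32768, 14, 15), (16384, 15, 14), (65536, 16, 17), (65536, 17, 16)],
  [(1, 0, 1), (1, 1, 0), (8, 2, 3), (4, 3, 2), (32, 4, 5), (16, 5, 4), (64, 6, 7), (64, 7, 6), (512, 8, 9), (256, 9, 8), (2048, 10, 11), (1024, 11, 10), (16384, 14, 15), (16384, 15, 14), (65536, 16, 17), (65536, 17, 16)],
  [(2, 0, 1), (1, 1, 0), (4, 2, 3), (4, 3, 2), (32, 4, 5), (16, 5, 4), (128, 6, 7), (64, 7, 6), (256, 8, 9), (256, 9, 8), (2048, 10, 11), (1024, 11, 10), (4096, 12, 13), (4096, 13, 12), (65536, 16, 17), (65536, 17, 16)],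
  [(2, 0, 1), (1, 1, 0), (8, 2, 3), (4, 3, 2), (16, 4, 5), (16, 5, 4), (128, 6, 7), (64, 7, 6), (512, 8, 9), (256, 9, 8), (1024, 10, 11), (1024, 11, 10), (4096, 12, 13), (4096, 13, 12), (16384, 14, 15), (16384, 15, 14)],
  [],
  [(3, 0, 2), (6, 1, 3), (12, 2, 4), (24, 3, 5), (192, 6, 8), (384, 7, 9), (1792, 8, 11), (1024, 8, 10), (512, 9, 10), (1024, 10, 11), (12288, 12, 14), (24576, 13, 15), (114688, 14, 17), (32768, 15, 16), (16384, 15, 14), (65536, 16, 17)],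
  [(15, 0, 4), (30, 1, 5), (12, 2, 4), (24, 3, 5), (960, 6, 10), (1920, 7, 11), (768, 8, 10), (1536, 9, 11), (1024, 10, 11), (1024, 11, 10), (61440, 12, 16), (122880, 13, 17), (49152, 14, 16), (98304, 15, 17), (131072, 16, 17), (65536, 17, 16)],
  [(63, 0, 6), (126, 1, 7), (252, 2, 8), (504, 3, 9), (1008, 4, 10), (2016, 5, 11), (4032, 6, 12), (8064, 7, 13), (32512, 8, 15), (15872, 9, 14), (256, 9, 8), (130048, 10, 17), (65536, 10, 16), (63488, 11, 16), (16384, 14, 15), (65536, 16, 17)],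
  [(255, 0, 8), (510, 1, 9), (1020, 2, 10), (2040, 3, 11), (112, 4, 7), (32, 5, 6), (16, 5, 4), (16320, 6, 14), (32640, 7, 15), (65280, 8, 16), (130560, 9, 17), (3072, 10, 12), (6144, 11, 13), (8192, 12, 13), (4096, 13, 12), (16384, 14, 15)],
  [(1023, 0, 10), (2046, 1, 11), (124, 2, 7), (64, 2, 6), (56, 3, 6), (240, 4, 8), (480, 5, 9), (65472, 6, 16), (130944, 7, 17), (3840, 8, 12), (7680, 9, 13), (15360, 10, 14), (30720, 11, 15), (4096, 12, 13), (4096, 13, 12), (65536, 16, 17)],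
  [(4095, 0, 12), (8190, 1, 13), (16380, 2, 14), (32760, 3, 15), (65520, 4, 16), (131040, 5, 17), (4032, 6, 12), (8064, 7, 13), (16128, 8, 14), (32256, 9, 15), (64512, 10, 16), (129024, 11, 17), (32768, 14, 15), (16384, 15, 14), (65536, 16, 17), (65536, 17, 16)],
  [(16383, 0, 14), (32766, 1, 15), (65532, 2, 16), (131064, 3, 17), (8176, 4, 13), (4096, 4, 12), (4064, 5, 12), (131008, 6, 17), (65408, 7, 16), (64, 7, 6), (7936, 8, 13), (3584, 9, 12), (15360, 10, 14), (30720, 11, 15), (4096, 12, 13), (65536, 16, 17)],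
  [(65535, 0, 16), (131070, 1, 17), (8188, 2, 13), (4088, 3, 12), (4, 3, 2), (16368, 4, 14), (32736, 5, 15), (32704, 6, 15), (16384, 6, 14), (16256, 7, 14), (65280, 8, 16), (130560, 9, 17), (7168, 10, 13), (2048, 11, 12), (4096, 12, 13), (16384, 14, 15)],
  [(4092, 2, 12), (8184, 3, 13), (48, 4, 6), (96, 5, 7), (4032, 6, 12), (8064, 7, 13), (16128, 8, 14), (32256, 9, 15), (15360, 10, 14), (30720, 11, 15), (49152, 14, 16), (98304, 15, 17)],
  [(60, 2, 6), (120, 3, 7), (4080, 4, 12), (8160, 5, 13), (4032, 6, 12), (8064, 7, 13), (768, 8, 10), (1536, 9, 11), (64512, 10, 16), (129024, 11, 17), (49152, 14, 16), (98304, 15, 17)],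
  [],
  [(16380, 2, 14), (32760, 3, 15), (1008, 4, 10), (2016, 5, 11), (192, 6, 8), (384, 7, 9), (768, 8, 10), (1536, 9, 11), (3072, 10, 12), (6144, 11, 13), (61440, 12, 16), (122880, 13, 17), (49152, 14, 16), (98304, 15, 17)],
  [(252, 2, 8), (504, 3, 9), (65520, 4, 16), (131040, 5, 17), (960, 6, 10), (1920, 7, 11), (3840, 8, 12), (7680, 9, 13), (3072, 10, 12), (6144, 11, 13), (12288, 12, 14), (24576, 13, 15), (49152, 14, 16), (98304, 15, 17)],
  [(12, 2, 4), (24, 3, 5), (4032, 6, 12), (8064, 7, 13), (65280, 8, 16), (130560, 9, 17), (15360, 10, 14), (30720, 11, 15)],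
  [(65532, 2, 16), (131064, 3, 17), (240, 4, 8), (480, 5, 9), (16320, 6, 14), (32640, 7, 15), (16128, 8, 14), (32256, 9, 15), (15360, 10, 14), (30720, 11, 15), (12288, 12, 14), (24576, 13, 15), (49152, 14, 16), (98304, 15, 17)],
  [(1020, 2, 10), (2040, 3, 11), (16368, 4, 14), (32736, 5, 15), (65472, 6, 16), (130944, 7, 17), (768, 8, 10), (1536, 9, 11), (64512, 10, 16), (129024, 11, 17), (61440, 12, 16), (122880, 13, 17), (49152, 14, 16), (98304, 15, 17)],
  [(16, 2, 4), (4096, 2, 12), (32, 3, 5), (8192, 3, 13), (4080, 4, 12), (4, 4, 2), (64, 4, 6), (8160, 5, 13), (8, 5, 3), (128, 5, 7), (4032, 6, 12), (4, 6, 2), (16, 6, 4), (8064, 7, 13), (8, 7, 3), (32, 7, 5), (1024, 8, 10), (16384, 8, 14), (2048, 9, 11), (32768, 9, 15), (256, 10, 8), (65536, 10, 16), (512, 11, 9), (131072, 11, 17), (16, 12, 4), (64, 12, 6), (32, 13, 5), (128, 13, 7), (256, 14, 8), (65536, 14, 16), (512, 15, 9), (131072, 15, 17), (1024, 16, 10),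 (16384, 16, 14), (2048, 17, 11), (32768, 17, 15)],
  [(16, 2, 4), (64, 2, 6), (32, 3, 5), (128, 3, 7), (48, 4, 6), (4, 4, 2), (4096, 4, 12), (96, 5, 7), (8, 5, 3), (8192, 5, 13), (4, 6, 2), (4096, 6, 12), (8, 7, 3), (8192, 7, 13), (768, 8, 10), (16384, 8, 14), (65536, 8, 16), (1536, 9, 11), (32768, 9, 15), (131072, 9, 17), (256, 10, 8), (16384, 10, 14), (512, 11, 9), (32768, 11, 15), (16, 12, 4), (64, 12, 6), (32, 13, 5), (128, 13, 7), (49152, 14, 16), (256, 14, 8), (1024, 14, 10), (98304, 15, 17), (512, 15, 9), (2048, 15, 11), (256, 16, 8), (16384, 16, 14), (512, 17, 9), (32768, 17, 15)],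
  [(64, 2, 6), (4096, 2, 12), (128, 3, 7), (8192, 3, 13), (64, 4, 6), (4096, 4, 12), (128, 5, 7), (8192, 5, 13), (4032, 6, 12), (4, 6, 2), (16, 6, 4), (8064, 7, 13), (8, 7, 3), (32, 7, 5), (1024, 8, 10), (65536, 8, 16), (2048, 9, 11), (131072, 9, 17), (64512, 10, 16), (256, 10, 8), (16384, 10, 14), (129024, 11, 17), (512, 11, 9), (32768, 11, 15), (4, 12, 2), (16, 12, 4), (8, 13, 3), (32, 13, 5), (49152, 14, 16), (256, 14, 8), (1024, 14, 10), (98304, 15, 17), (512, 15, 9), (2048, 15, 11), (1024, 16, 10), (16384, 16, 14), (2048, 17, 11), (32768, 17, 15)],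
  [(252, 2, 8), (16384, 2, 14), (65536, 2, 16), (504, 3, 9), (32768, 3, 15), (131072, 3, 17), (16368, 4, 14), (4, 4, 2), (1024, 4, 10), (32736, 5, 15), (8, 5, 3), (2048, 5, 11), (65472, 6, 16), (4, 6, 2), (16, 6, 4), (130944, 7, 17), (8, 7, 3), (32, 7, 5), (4096, 8, 12), (16384, 8, 14), (8192, 9, 13), (32768, 9, 15), (3072, 10, 12), (16384, 10, 14), (65536, 10, 16), (6144, 11, 13), (32768, 11, 15), (131072, 11, 17), (16, 12, 4), (64, 12, 6), (32, 13, 5), (128, 13, 7), (256, 14, 8), (65536, 14, 16), (512, 15, 9), (131072, 15, 17), (1024, 16, 10), (16384, 16, 14), (2048, 17, 11), (32768, 17, 15)],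
  [(252, 2, 8), (1024, 2, 10), (16384, 2, 14), (504, 3, 9), (2048, 3, 11), (32768, 3, 15), (1008, 4, 10), (16384, 4, 14), (65536, 4, 16), (2016, 5, 11), (32768, 5, 15), (131072, 5, 17), (16320, 6, 14), (4, 6, 2), (16, 6, 4), (32640, 7, 15), (8, 7, 3), (32, 7, 5), (4096, 8, 12), (16384, 8, 14), (8192, 9, 13), (32768, 9, 15), (256, 10, 8), (16384, 10, 14), (512, 11, 9), (32768, 11, 15), (61440, 12, 16), (16, 12, 4), (64, 12, 6), (122880, 13, 17), (32, 13, 5), (128, 13, 7), (1024, 14, 10), (65536, 14, 16), (2048, 15, 11), (131072, 15, 17), (256, 16, 8), (1024, 16, 10), (512, 17, 9), (2048, 17, 11)],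
  [(12, 2, 4), (64, 2, 6), (4096, 2, 12), (24, 3, 5), (128, 3, 7), (8192, 3, 13), (64, 4, 6), (4096, 4, 12), (128, 5, 7), (8192, 5, 13), (4, 6, 2), (16, 6, 4), (8, 7, 3), (32, 7, 5), (16384, 8, 14), (65536, 8, 16), (32768, 9, 15), (131072, 9, 17), (16384, 10, 14), (65536, 10, 16), (32768, 11, 15), (131072, 11, 17), (4, 12, 2), (16, 12, 4), (8, 13, 3), (32, 13, 5), (256, 14, 8), (1024, 14, 10), (512, 15, 9), (2048, 15, 11), (256, 16, 8), (1024, 16, 10), (512, 17, 9), (2048, 17, 11)],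
  [(1020, 2, 10), (16384, 2, 14), (65536, 2, 16), (2040, 3, 11), (32768, 3, 15), (131072, 3, 17), (65520, 4, 16), (4, 4, 2), (256, 4, 8), (131040, 5, 17), (8, 5, 3), (512, 5, 9), (192, 6, 8), (4, 6, 2), (16384, 6, 14), (384, 7, 9), (8, 7, 3), (32768, 7, 15), (4096, 8, 12), (65536, 8, 16), (8192, 9, 13), (131072, 9, 17), (256, 10, 8), (4096, 10, 12), (512, 11, 9), (8192, 11, 13), (12288, 12, 14), (4, 12, 2), (16, 12, 4), (24576, 13, 15), (8, 13, 3), (32, 13, 5), (49152, 14, 16), (256, 14, 8), (1024, 14, 10), (98304, 15, 17), (512, 15, 9), (2048, 15, 11), (256, 16, 8), (16384, 16, 14), (512, 17, 9), (32768, 17, 15)],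
  [(252, 2, 8), (1024, 2, 10), (65536, 2, 16), (504, 3, 9), (2048, 3, 11), (131072, 3, 17), (1008, 4, 10), (4, 4, 2), (16384, 4, 14), (2016, 5, 11), (8, 5, 3), (32768, 5, 15), (16320, 6, 14), (4, 6, 2), (65536, 6, 16), (32640, 7, 15), (8, 7, 3), (131072, 7, 17), (1024, 8, 10), (16384, 8, 14), (2048, 9, 11), (32768, 9, 15), (256, 10, 8), (4096, 10, 12), (512, 11, 9), (8192, 11, 13), (61440, 12, 16), (4, 12, 2), (16, 12, 4), (122880, 13, 17), (8, 13, 3), (32, 13, 5), (256, 14, 8), (1024, 14, 10), (512, 15, 9), (2048, 15, 11), (1024, 16, 10), (16384, 16, 14), (2048, 17, 11), (32768, 17, 15)]]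

/-- the networks of the generators -/
noncomputable def V : List Net := specs.map (linNet 18)

/-- the non-zero elements -/
def l8 : List F9 := [(0, 1), (0, 2), (1, 0), (1, 1), (1, 2), (2, 0), (2, 1), (2, 2)]

/-- all elements -/
def l9 : List F9 := (0, 0) :: l8

theorem enum9 : Enum l9 := ⟨by decide, by decide⟩

theorem mem8 : ∀ Z : F9, Z ∈ l8 ↔ Z ≠ 0 := by decide

/-- the generators -/
def genL (F : Type) [Field F] (ω : F) : List (Matrix F9 F9 F) :=
  l9.map (j3A F ω) ++ l9.map (j3E F ω) ++ l9.map (j3D F ω) ++ l8.map (j3B F) ++ l8.map (j3C F)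

theorem mem_genL {F : Type} [Field F] {ω : F} {M : Matrix F9 F9 F} :
    M ∈ j3Gens F ω ↔ M ∈ genL F ω := by
  simp [j3Gens, genL, enum9.2, mem8, eq_comm, or_assoc]

/-- generator number `j` -/
noncomputable def gen (j : ℕ) : Matrix F9 F9 F4 := nthD 1 (genL F4 F4.w) j

/-- the coordinate planes -/
noncomputable def W (z : F9) : BP :=
  ⟨plane (6 * z.1.val + 2 * z.2.val) 18, plane (6 * z.1.val + 2 * z.2.val + 1) 18⟩

theorem hV : okA (2 ^ 18) V = true := by decide +kernel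

theorem lenV : V.length = 43 := by decide +kernel

theorem invV : invB V (kgens V 0) (ivl 0 (2 ^ 18)) = true := by decide +kernel

theorem linV : allL (List.range' 0 43) (fun j =>
    linB l9 (gen j) W ⟨ivl 0 (2 ^ 18), 0⟩ (papp1 V [gw j]) (ivl 0 (2 ^ 18))) = true := by
  decide +kernel

theorem orb1 : orbCardB V 15 0 1 20 69768 = true := by decide +kernel

theorem orb2 : nzB [()] (fun _ => BP.sumL l9 fun z => (W z).mul ((W z).mul (W z)))
    (Nat.xor (ivl 1 (2 ^ 18)) (Nat.land (ivl 1 (2 ^ 18)) (korb V 0 5 20))) = true := by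
  decide +kernel

theorem unitary : ∀ j < 43, (gen j)ᵀ * (gen j).map F4.frob = 1 := by decide +kernel

end Cfsg.Agent.Spor.J3c
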